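import Groth.Agent.CanonContrLib.Pullback
import Groth.Agent.S0054
import Groth.Agent.S2153
import Groth.Agent.S7642
import Groth.Agent.S13321
import Groth.Agent.ContractLib.Artin

/-!
# Ampleness of the canonical sheaf of the canonical model
-/

set_option autoImplicit false
set_option backward.isDefEq.respectTransparency false
set_option backward.isDefEq.respectTransparency.types false
set_option linter.style.haveILetI false
set_option linter.unusedSectionVars false
set_option maxHeartbeats 4000000
universe u
open AlgebraicGeometry CategoryTheory CategoryTheory.Limits TopologicalSpace IsLocalRing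
open CubeConsLib (cl IsoCls cl_tensor cl_eq_iff cl_eq_one_iff pull pull_cl pull_comp)
open KFlatLib (pb)

noncomputable section

namespace CanonContrLib

variable {R : Type u} [CommRing R] [IsDomain R] [IsDiscreteValuationRing R]
  {Y : Over (Spec (CommRingCat.of R))}

/-- The closed fibre of a surface has dimension at most one. -/
theorem dim_closedFibre_le [IsIntegral Y.left] [Flat Y.hom] [IsProper Y.hom]
    (hdim : topologicalKrullDim Y.left ≤ 2) :
    topologicalKrullDim ↥(pullback Y.hom (Spec.map (CommRingCat.ofHom (residue R)))) ≤ 1 := by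
  haveI : IsClosedImmersion (Spec.map (CommRingCat.ofHom (residue R))) :=
    IsClosedImmersion.spec_of_surjective _ residue_surjective
  let g := pullback.fst Y.hom (Spec.map (CommRingCat.ofHom (residue R)))
  by_contra h
  obtain ⟨u, v, w, huv, hvw, nuv, nvw⟩ :=
    VertChiLib.exists_three (A := ↥(pullback Y.hom (Spec.map (CommRingCat.ofHom (residue R))))) h
  have hg : ∀ a, Y.hom (g a) = closedPoint R := fun a => by
    rw [← Scheme.Hom.comp_apply, pullback.condition, Scheme.Hom.comp_apply,
      Subsingleton.elim (α := PrimeSpectrum (ResidueField R)) ((pullback.snd Y.hom _) a) (closedPoint (ResidueField R))]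
    exact IsLocalRing.comap_closedPoint (residue R)
  refine RelMinSmLib.not_four hdim ((genericPoint_spec Y.left).specializes (y := g u) trivial) (huv.map g.continuous)
    (hvw.map g.continuous) ?_ (fun h' => nuv (g.isClosedEmbedding.injective h'))
    (fun h' => nvw (g.isClosedEmbedding.injective h'))
  intro h'
  have h1 := hg u
  rw [← h', VertIntLib.genericPoint_over] at h1
  exact VertIntLib.eta_ne_closedPoint h1

/-- An invertible sheaf of positive degree on every component of the closed fibre is ample. -/
theorem isAmple_of_curves [IsIntegral Y.left] [Flat Y.hom] [IsProper Y.hom]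
    (hdim : topologicalKrullDim Y.left ≤ 2) {M : Y.left.Modules} (hM : PicF.IsInvertible M)
    (hpos : ∀ D : ArSurf.VertComp R Y, VertIntLib.IsFibGen (Models.genPtOf R Y D) → 0 < ArSurf.inter R Y M D) :
    CohB1.IsAmple M := by
  let v := Spec.map (CommRingCat.ofHom (residue R))
  haveI : IsClosedImmersion v := IsClosedImmersion.spec_of_surjective _ residue_surjective
  let Z := pullback Y.hom v
  let ι : Z ⟶ Y.left := pullback.fst Y.hom v
  let q : Z ⟶ Spec (CommRingCat.of (ResidueField R)) := pullback.snd Y.hom v
  haveI : IsClosedImmersion ι := inferInstanceAs (IsClosedImmersion (pullback.fst Y.hom v))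
  letI : Z.Over (Spec (CommRingCat.of (ResidueField R))) := ⟨q⟩
  haveI : IsProper (Z ↘ Spec (CommRingCat.of (ResidueField R))) := inferInstanceAs (IsProper q)
  haveI : IsNoetherian Z := CurvLib.isNoetherian (ResidueField R) (X := Z)
  have hvc : ∀ a, v a = closedPoint R := fun a => by
    rw [Subsingleton.elim (α := PrimeSpectrum (ResidueField R)) a (closedPoint (ResidueField R))]
    exact IsLocalRing.comap_closedPoint (residue R)
  have hι : ∀ a, Y.hom (ι a) = closedPoint R := fun a => by
    rw [← Scheme.Hom.comp_apply, pullback.condition, Scheme.Hom.comp_apply]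
    exact hvc _
  have hdZ : topologicalKrullDim Z ≤ 1 := dim_closedFibre_le hdim
  -- ampleness on the closed fibre
  have hZ : CohB1.IsAmple (pb ι M) := by
    refine (Groth.Agent.S7642.result (ResidueField R) Z hdZ _ (AmpleDevLib.isInvertible_pb ι hM)).2
      fun C hC hC1 => ?_
    let J := (Z.irreducibleComponentIdeal C hC).radical
    let ι₀ : J.subscheme ⟶ Z := J.subschemeι
    have hr0 : Set.range ι₀ = C :=
      J.range_subschemeι.trans (congrArg (fun S : Closeds Z => (S : Set Z))
        (Scheme.IdealSheafData.support_radical (Z.irreducibleComponentIdeal C hC)))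
    haveI : IsIntegral J.subscheme := by
      show IsIntegral ((Z.irreducibleComponentIdeal C hC).radical).subscheme
      rw [← Scheme.IdealSheafData.vanishingIdeal_support]
      exact AmpleDevLib.isIntegral_vanishingIdeal _ hC.1
    haveI : IsClosedImmersion ι₀ := inferInstanceAs (IsClosedImmersion J.subschemeι)
    have hd : topologicalKrullDim J.subscheme = 1 := by
      rw [ι₀.isEmbedding.toHomeomorph.isHomeomorph.topologicalKrullDim_eq, hr0, hC1]
    let D : ArSurf.VertComp R Y := ⟨Over.mk (ι₀ ≫ q), ι₀ ≫ ι, inferInstance, ‹IsIntegral J.subscheme›, hd, by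
      show (ι₀ ≫ ι) ≫ Y.hom = (ι₀ ≫ q) ≫ v
      rw [Category.assoc, Category.assoc, pullback.condition]⟩
    have hgenD : VertIntLib.IsFibGen (Models.genPtOf R Y D) := by
      intro z hz hzs
      have hzr : z ∈ Set.range ι := by
        rw [Scheme.Pullback.range_fst]
        exact ⟨closedPoint (ResidueField R), by rw [hvc, hz]⟩
      obtain ⟨a, rfl⟩ := hzr
      have hDg : Models.genPtOf R Y D = ι (ι₀ (genericPoint J.subscheme)) := rfl
      rw [hDg] at hzs ⊢
      have has : a ⤳ ι₀ (genericPoint J.subscheme) := ι.isEmbedding.isInducing.specializes_iff.1 hzs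
      have hcl : closure ({ι₀ (genericPoint J.subscheme)} : Set Z) = C := by
        rw [← Set.image_singleton, ι₀.isClosedEmbedding.closure_image_eq,
          (genericPoint_spec J.subscheme).def, Set.image_univ, hr0]
      have hsub : C ⊆ closure ({a} : Set Z) := by
        rw [← hcl]
        exact closure_minimal (Set.singleton_subset_iff.2 (specializes_iff_mem_closure.1 has)) isClosed_closure
      have heq := hC.2 isIrreducible_singleton.closure hsub
      rw [← hcl] at heq
      exact congrArg ι ((specializes_iff_mem_closure.2 (heq (subset_closure rfl))).antisymm has).eq.symm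
    have h := hpos D hgenD
    rw [VertIntLib.inter_eq_deg] at h
    refine lt_of_lt_of_eq h (CurvLib.deg_congr ?_ 1)
    exact ((Scheme.Modules.pullbackComp ι₀ ι).app M).symm
  -- comparison with the fibre over the closed point
  let s : ↥(Spec (CommRingCat.of R)) := closedPoint R
  haveI : IsClosedImmersion ((Spec (CommRingCat.of R)).fromSpecResidueField s) := by
    rw [← Scheme.Spec.map_residueFieldIso_inv_eq_fromSpecResidueField]
    haveI : IsClosedImmersion (Spec.map (CommRingCat.ofHom (algebraMap R s.asIdeal.ResidueField))) := by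
      haveI : s.asIdeal.IsMaximal := IsLocalRing.maximalIdeal.isMaximal R
      exact IsClosedImmersion.spec_of_surjective _ (Ideal.algebraMap_residueField_surjective s.asIdeal)
    infer_instance
  let w : Spec (CommRingCat.of (ResidueField R)) ⟶ Spec ((Spec (CommRingCat.of R)).residueField s) :=
    IsClosedImmersion.lift ((Spec (CommRingCat.of R)).fromSpecResidueField s) v
      (DvrProperLib.ker_le_ker_of_range_subset _ _ (by
        rintro _ ⟨a, rfl⟩
        rw [Scheme.range_fromSpecResidueField]
        exact hvc a))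
  have hw : w ≫ (Spec (CommRingCat.of R)).fromSpecResidueField s = v := IsClosedImmersion.lift_fac _ _ _
  haveI : IsClosedImmersion w := by
    haveI : IsClosedImmersion (w ≫ (Spec (CommRingCat.of R)).fromSpecResidueField s) := by rw [hw]; infer_instance
    exact IsClosedImmersion.of_comp w ((Spec (CommRingCat.of R)).fromSpecResidueField s)
  haveI : IsIso w := by
    haveI : Subsingleton ↥(Spec ((Spec (CommRingCat.of R)).residueField s)) :=
      inferInstanceAs (Subsingleton (PrimeSpectrum _))
    haveI : Surjective w := ⟨fun y => ⟨closedPoint (ResidueField R), Subsingleton.elim _ _⟩⟩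
    exact isIso_of_isClosedImmersion_of_surjective w
  let i : Z ⟶ Y.hom.fiber s := pullback.map Y.hom v Y.hom ((Spec (CommRingCat.of R)).fromSpecResidueField s)
    (𝟙 _) w (𝟙 _) (by simp) (by rw [hw, Category.comp_id])
  haveI : IsIso i := inferInstanceAs (IsIso (pullback.map Y.hom v Y.hom _ (𝟙 _) w (𝟙 _) _ _))
  have hi : i ≫ Y.hom.fiberι s = ι := (pullback.lift_fst _ _ _).trans (Category.comp_id _)
  have hy : CohB1.IsAmple (pb (Y.hom.fiberι s) M) := by
    refine (Groth.Agent.S2153.result i i.homeomorph.isHomeomorph _ (AmpleDevLib.isInvertible_pb _ hM)).1 ?_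
    refine AmpleDevLib.isAmple_of_iso (AmpleDevLib.isInvertible_pb ι hM)
      (AmpleDevLib.isInvertible_pb i (AmpleDevLib.isInvertible_pb _ hM)) ?_ hZ
    refine (cl_eq_iff.1 ?_).some
    show cl (pb ι M) = cl (pb i (pb (Y.hom.fiberι s) M))
    rw [← pull_cl, ← pull_cl, ← pull_cl, pull_comp, hi]
  obtain ⟨V, hV, hamp⟩ := Groth.Agent.S0054.result Y.hom M hM s hy
  have htop : V = ⊤ := eq_top_iff.2 fun x _ => (IsLocalRing.specializes_closedPoint x).mem_open V.2 hV
  haveI : IsIso (Y.hom ⁻¹ᵁ (⊤ : (Spec (CommRingCat.of R)).Opens)).ι := by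
    rw [Scheme.Hom.preimage_top]; infer_instance
  exact AmpleThLib.isAmple_of_restrict_iso hM _ (hamp ⊤ htop.ge (isAffineOpen_top _))

variable {X : Over (Spec (CommRingCat.of R))} {r : ℕ} {Γ : Fin r → ArSurf.VertComp R X} {f : X ⟶ Y}

/-- A component of the closed fibre of the contraction is the birational image of a component which is not
contracted. -/
theorem exists_above (hX : ArSurf.IsArithSurface R X) (h : Contr Γ Y f) (D : ArSurf.VertComp R Y)
    (hD : VertIntLib.IsFibGen (Models.genPtOf R Y D)) :
    ∃ C : ArSurf.VertComp R X, (∀ i, Set.range (C.ι.base : C.curve.left → X.left) ≠ Set.range ((Γ i).ι.base : (Γ i).curve.left → X.left)) ∧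
      ∀ M : Y.left.Modules, PicF.IsInvertible M →
        ArSurf.inter R X ((Scheme.Modules.pullback f.left).obj M) C = ArSurf.inter R Y M D := by
  obtain ⟨hXi, hXp, hXn⟩ := PtBlowFactLib.surf_instances hX
  haveI := hXi; haveI := hXp; haveI := hXn
  haveI := hX.2.2.2.1
  haveI := h.int
  haveI := h.isProper
  haveI := h.isProper_left
  haveI := h.isIso_away
  let ξ := Models.genPtOf R Y D
  have hξ : ξ ∈ away Γ f := by
    rintro ⟨z, hz, hzξ⟩
    obtain ⟨j, c, rfl⟩ := Set.mem_iUnion.1 hz
    obtain ⟨y, hy⟩ := h.pt j
    have hyc : IsClosed ({y} : Set Y.left) := by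
      haveI := VertIntLib.isProper_curve (Γ j)
      rw [← hy, Scheme.Hom.comp_base, TopCat.coe_comp, Set.range_comp]
      exact f.left.isClosedMap _ (Γ j).ι.isClosedEmbedding.isClosed_range
    have hξy : ξ = y := by
      rw [← hzξ]
      exact (Set.mem_singleton_iff.1 (hy.le ⟨c, by rw [Scheme.Hom.comp_apply]⟩))
    have hall : ∀ d, D.ι d = y := fun d => by
      have h1 : D.ι d ∈ closure ({ξ} : Set Y.left) := (VertIntLib.range_eq_closure D).le ⟨d, rfl⟩
      rw [hξy, hyc.closure_eq] at h1
      exact h1
    haveI : Subsingleton ↥D.curve.left := ⟨fun a b => D.ι.isEmbedding.injective ((hall a).trans (hall b).symm)⟩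
    have h3 := topologicalKrullDim_zero_of_discreteTopology (X := ↥D.curve.left)
    rw [D.dim_eq] at h3
    exact absurd h3 (by decide)
  obtain ⟨x, hx⟩ : ξ ∈ Set.range f.left := by
    obtain ⟨a, ha⟩ := (f.left ∣_ away Γ f).homeomorph.surjective ⟨ξ, hξ⟩
    exact ⟨a.1, (morphismRestrict_base_coe f.left (away Γ f) a).symm.trans (congrArg Subtype.val ha)⟩
  have hxs : X.hom x = closedPoint R := by
    rw [← Over.w f, Scheme.Hom.comp_apply, hx]
    exact VertIntLib.genPt_over D
  obtain ⟨n, Δ, hΔ⟩ := VertChiLib.exists_list_of_dim_two (X := X) hX.2.2.1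
  obtain ⟨i, c, hc⟩ := VertIntLib.cover_of_list hΔ x hxs
  let γ := Models.genPtOf R X (Δ i)
  have hγ : f.left γ = ξ := by
    refine hD _ ?_ ?_
    · rw [← Scheme.Hom.comp_apply, Over.w f]
      exact VertIntLib.genPt_over (Δ i)
    · show f.left γ ⤳ ξ
      rw [← hx, ← hc]
      exact (((genericPoint_spec (Δ i).curve.left).specializes trivial).map (Δ i).ι.continuous).map f.left.continuous
  have hγaway : γ ∈ f.left ⁻¹ᵁ away Γ f := by
    show f.left γ ∈ away Γ f
    rw [hγ]; exact hξ
  refine ⟨Δ i, fun j hj => h.not_mem_away γ (Set.mem_iUnion.2 ⟨j, hj.le ⟨_, rfl⟩⟩) hγaway, fun M hM => ?_⟩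
  refine MinModLib.inter_pullback_birat f (Δ i) D ?_ hγ.symm ?_ hM
  · rw [VertIntLib.range_eq_closure, VertIntLib.range_eq_closure]
    refine (image_closure_subset_closure_image f.left.continuous).trans ?_
    rw [Set.image_singleton]
    exact closure_mono (Set.singleton_subset_iff.2 hγ)
  · exact (MorphismProperty.arrow_mk_iso_iff (MorphismProperty.isomorphisms _)
      (morphismRestrictStalkMap f.left (away Γ f) ⟨γ, hγaway⟩)).1
      (inferInstanceAs (IsIso ((f.left ∣_ away Γ f).stalkMap ⟨γ, hγaway⟩)))

/-- The canonical sheaf of the canonical model is ample. -/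
theorem canonical_ample (hX : ArSurf.IsArithSurface R X) (hmin : Neron.IsRelMinimalRegularModel R X)
    (hg : FGA.eulerCharLE (FractionRing R) ((Neron.genericFibre R).obj X).left (Coh.structureModule ((Neron.genericFibre R).obj X).left) 1 ≤ -1)
    (h : Contr Γ Y f)
    (hΓ : Function.Injective fun i => Set.range ((Γ i).ι.base : (Γ i).curve.left → X.left))
    (L : Fin r → X.left.Modules) (hL : ∀ j, ClSub.IsInverseOf (L j) (ClSub.idealMod (Γ j).ι.ker))
    (hneg : ∀ c : Fin r → ℤ, c ≠ 0 →
      (Finset.univ : Finset (Fin r × Fin r)).sum (fun p => c p.1 * c p.2 * ArSurf.inter R X (L p.2) (Γ p.1)) < 0)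
    (ωX : X.left.Modules) (hωX : Canon.IsCanonical X.hom ωX) (hK : ∀ i, ArSurf.inter R X ωX (Γ i) = 0)
    (hall : ∀ C : ArSurf.VertComp R X, ArSurf.inter R X ωX C = 0 →
      ∃ i, Set.range (C.ι.base : C.curve.left → X.left) = Set.range ((Γ i).ι.base : (Γ i).curve.left → X.left))
    (ωY : Y.left.Modules) (hωY : Canon.IsCanonical Y.hom ωY) : CohB1.IsAmple ωY := by
  obtain ⟨hXi, hXp, hXn⟩ := PtBlowFactLib.surf_instances hX
  haveI := hXi; haveI := hXp; haveI := hXn
  haveI := hX.2.2.2.1
  haveI := h.int
  haveI := h.flat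
  haveI := h.isProper
  haveI : IsLocallyNoetherian Y.left := LocallyOfFiniteType.isLocallyNoetherian Y.hom
  have hωYi := RegConLib.isInvertible_of_isCanonical hωY
  have hnef := (Groth.Agent.S13321.result R X hX (hg.trans (by norm_num)) ωX hωX).1 hmin
  refine isAmple_of_curves h.dim.le hωYi fun D hD => ?_
  obtain ⟨C, hC, hdeg⟩ := exists_above hX h D hD
  rw [← hdeg ωY hωYi, VertIntLib.inter_congr ((pull_cl _ _).symm.trans
    (pullback_canonical hX h hΓ L hL hneg ωX hωX hK ωY hωY)) C]
  refine lt_of_le_of_ne (hnef C) fun e => ?_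
  obtain ⟨i, hi⟩ := hall C e.symm
  exact hC i hi

end CanonContrLib

end
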