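import Groth.Agent.CanonContrLib.Trivial
import Groth.Agent.CanonRestrLib.Main
import Groth.Agent.MinModLib.Images
import Groth.Agent.AmpleDevLib.Devissage
import Groth.Agent.CohCmpLib.FamilyPic2
import Groth.Agent.BlanchardLib.Birat
import Groth.Agent.S7909

/-!
# The canonical sheaf of a contraction of canonically trivial curves
-/

set_option autoImplicit false
set_option backward.isDefEq.respectTransparency false
set_option backward.isDefEq.respectTransparency.types false
set_option linter.style.haveILetI false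
set_option linter.unusedSectionVars false
set_option maxHeartbeats 4000000
universe u
open AlgebraicGeometry CategoryTheory CategoryTheory.Limits TopologicalSpace IsLocalRing
open CubeConsLib (cl IsoCls cl_tensor cl_eq_iff cl_eq_one_iff pull pull_cl pull_comp)
open KFlatLib (pb)

noncomputable section

namespace CanonContrLib

variable {R : Type u} [CommRing R] [IsDomain R] [IsDiscreteValuationRing R]

/-- A contraction: the data common to the statements on canonical models. -/
structure Contr {X : Over (Spec (CommRingCat.of R))} {r : ℕ} (Γ : Fin r → ArSurf.VertComp R X)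
    (Y : Over (Spec (CommRingCat.of R))) (f : X ⟶ Y) : Prop where
  int : IsIntegral Y.left
  nor : ∀ q : Y.left, IsIntegrallyClosed (Y.left.presheaf.stalk q)
  dim : topologicalKrullDim Y.left = 2
  flat : Flat Y.hom
  proj : Neron.IsProjectiveOver R Y
  pt : ∀ i, ∃ y : Y.left, Set.range (((Γ i).ι ≫ f.left).base : (Γ i).curve.left → Y.left) = {y}
  pre : f.left.base ⁻¹' (f.left.base '' ⋃ i, Set.range (Γ i).ι.base) = ⋃ i, Set.range (Γ i).ι.base
  iso : ∀ V : Y.left.Opens, (V : Set Y.left) ∩ f.left.base '' (⋃ i, Set.range (Γ i).ι.base) = ∅ →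
    IsIso (f.left ∣_ V)

variable {X : Over (Spec (CommRingCat.of R))} {r : ℕ} {Γ : Fin r → ArSurf.VertComp R X}
  {Y : Over (Spec (CommRingCat.of R))} {f : X ⟶ Y}

theorem Contr.isProper (h : Contr Γ Y f) : IsProper Y.hom :=
  Groth.Agent.S7909.isProper_of_projective Y h.proj

theorem Contr.isProper_left (h : Contr Γ Y f) [IsProper X.hom] : IsProper f.left := by
  haveI := h.isProper
  haveI : IsProper (f.left ≫ Y.hom) := by rw [Over.w f]; infer_instance
  exact IsProper.of_comp f.left Y.hom

theorem isClosed_union (Γ : Fin r → ArSurf.VertComp R X) :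
    IsClosed (⋃ i, Set.range ((Γ i).ι.base : (Γ i).curve.left → X.left)) :=
  isClosed_iUnion_of_finite fun i => (Γ i).ι.isClosedEmbedding.isClosed_range

/-- The open over which a contraction is an isomorphism. -/
def away (Γ : Fin r → ArSurf.VertComp R X) (f : X ⟶ Y) [IsProper f.left] : Y.left.Opens :=
  ⟨(f.left.base '' ⋃ i, Set.range ((Γ i).ι.base : (Γ i).curve.left → X.left))ᶜ,
    (f.left.isClosedMap _ (isClosed_union Γ)).isOpen_compl⟩

theorem Contr.isIso_away (h : Contr Γ Y f) [IsProper f.left] : IsIso (f.left ∣_ away Γ f) :=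
  h.iso _ (Set.compl_inter_self _)

theorem Contr.mem_away_of_generic (_h : Contr Γ Y f) [IsProper f.left] (x : X.left)
    (hx : X.hom x ≠ closedPoint R) : x ∈ f.left ⁻¹ᵁ away Γ f := by
  rintro ⟨z, hz, hzx⟩
  obtain ⟨i, c, rfl⟩ := Set.mem_iUnion.1 hz
  refine hx ?_
  rw [← Over.w f, Scheme.Hom.comp_apply, show f.left x = f.left ((Γ i).ι c) from hzx.symm, ← Scheme.Hom.comp_apply, Over.w f]
  exact VertIntLib.over_closedPoint (Γ i) c

theorem Contr.not_mem_away (h : Contr Γ Y f) [IsProper f.left] (x : X.left)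
    (hx : x ∈ ⋃ i, Set.range ((Γ i).ι.base : (Γ i).curve.left → X.left)) : x ∉ f.left ⁻¹ᵁ away Γ f :=
  fun hm => hm ⟨x, hx, rfl⟩

theorem Contr.mem_union_of_not_away (h : Contr Γ Y f) [IsProper f.left] (x : X.left)
    (hx : x ∉ f.left ⁻¹ᵁ away Γ f) : x ∈ ⋃ i, Set.range ((Γ i).ι.base : (Γ i).curve.left → X.left) :=
  h.pre.le (not_not.1 hx)

theorem Contr.away_nonempty (h : Contr Γ Y f) [IsProper f.left] [IsIntegral X.left] [Flat X.hom] :
    Nonempty (away Γ f) :=
  ⟨⟨f.left (genericPoint X.left), h.mem_away_of_generic _ fun e =>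
    VertIntLib.eta_ne_closedPoint (VertIntLib.genericPoint_over.symm.trans e)⟩⟩

/-- Pullbacks along maps to a point have degree zero on the curve. -/
theorem inter_pullback_point [IsProper X.hom] [IsIntegral X.left] [Flat X.hom] (C : ArSurf.VertComp R X) (g : X ⟶ Y) (y : Y.left)
    (hy : Set.range ((C.ι ≫ g.left).base : C.curve.left → Y.left) = {y}) {M : Y.left.Modules}
    (hM : PicF.IsInvertible M) : ArSurf.inter R X ((Scheme.Modules.pullback g.left).obj M) C = 0 := by
  haveI := VertIntLib.isProper_curve C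
  obtain ⟨W, hyW, ⟨t⟩⟩ := hM y
  let l : C.curve.left ⟶ (W : Scheme.{u}) := IsOpenImmersion.lift W.ι (C.ι ≫ g.left) (by
    rw [hy, Scheme.Opens.range_ι]; exact Set.singleton_subset_iff.2 hyW)
  have hl : l ≫ W.ι = C.ι ≫ g.left := IsOpenImmersion.lift_fac _ _ _
  have h1 : pull W.ι (cl M) = 1 :=
    cl_eq_one_iff.2 ⟨((Scheme.Modules.restrictFunctorIsoPullback W.ι).app M).symm ≪≫ t⟩
  have h2 : pull C.ι (pull g.left (cl M)) = 1 := by rw [pull_comp, ← hl, ← pull_comp, h1, map_one]
  obtain ⟨e⟩ := cl_eq_iff.1 (h2.trans (map_one (pull C.ι)).symm :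
    cl (pb C.ι ((Scheme.Modules.pullback g.left).obj M)) = cl (pb C.ι (Coh.structureModule X.left)))
  rw [← VertIntLib.inter_structure C, VertIntLib.inter_eq_deg, VertIntLib.inter_eq_deg]
  exact CurvLib.deg_congr e 1

/-- The canonical sheaf pulls back to the canonical sheaf. -/
theorem pullback_canonical (hX : ArSurf.IsArithSurface R X) (h : Contr Γ Y f)
    (hΓ : Function.Injective fun i => Set.range ((Γ i).ι.base : (Γ i).curve.left → X.left))
    (L : Fin r → X.left.Modules) (hL : ∀ j, ClSub.IsInverseOf (L j) (ClSub.idealMod (Γ j).ι.ker))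
    (hneg : ∀ c : Fin r → ℤ, c ≠ 0 →
      (Finset.univ : Finset (Fin r × Fin r)).sum (fun p => c p.1 * c p.2 * ArSurf.inter R X (L p.2) (Γ p.1)) < 0)
    (ωX : X.left.Modules) (hωX : Canon.IsCanonical X.hom ωX) (hK : ∀ i, ArSurf.inter R X ωX (Γ i) = 0)
    (ωY : Y.left.Modules) (hωY : Canon.IsCanonical Y.hom ωY) :
    pull f.left (cl ωY) = cl ωX := by
  classical
  obtain ⟨hXi, hXp, hXn⟩ := PtBlowFactLib.surf_instances hX
  haveI := hXi; haveI := hXp; haveI := hXn
  haveI := hX.2.2.2.1
  haveI := h.int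
  haveI := h.isProper
  haveI := h.isProper_left
  haveI : IsLocallyNoetherian Y.left := LocallyOfFiniteType.isLocallyNoetherian Y.hom
  haveI : CompactSpace Y.left := QuasiCompact.compactSpace_of_compactSpace Y.hom
  haveI : IsNoetherian Y.left := ⟨⟩
  haveI := h.isIso_away
  let V := away Γ f
  let U := f.left ⁻¹ᵁ V
  have hωXi := RegConLib.isInvertible_of_isCanonical hωX
  have hωYi := RegConLib.isInvertible_of_isCanonical hωY
  obtain ⟨ωX', hωX'⟩ := VertIntLib.exists_inverse hωXi
  have hinv : cl ωX' * cl ωX = 1 := by rw [← cl_tensor]; exact cl_eq_one_iff.2 hωX'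
  have hωX'i : PicF.IsInvertible ωX' := IntMultLib.isInvertible_of_inverse hωXi (HilbPolyLib.swapIso _ _ ≪≫ hωX'.some)
  -- on the open set the two sheaves agree
  have hrestr : pull U.ι (pull f.left (cl ωY)) = pull U.ι (cl ωX) := by
    have h1 := CanonRestrLib.isCanonical_comp U.ι hωX
    have h2 := CanonRestrLib.isCanonical_comp (f.left ∣_ V) (CanonRestrLib.isCanonical_comp V.ι hωY)
    rw [← Category.assoc, morphismRestrict_ι, Category.assoc, Over.w f] at h2
    rw [pull_comp, ← morphismRestrict_ι, ← pull_comp, pull_cl, pull_cl, pull_cl]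
    exact cl_eq_iff.2 (CanonRestrLib.nonempty_iso h2 h1)
  obtain ⟨n, Δ, hΔ⟩ := VertChiLib.exists_list_of_dim_two (X := X) hX.2.2.1
  choose L' hL' using fun i => VertIntLib.exists_inverse (IntMultLib.isInvertible_idealMod _
    (VertIntLib.isEffCartier_ker hX.1 (Δ i) (VertIntLib.isFibGen_of_list hΔ i)))
  let F := CohB1.tensorMod ((Scheme.Modules.pullback f.left).obj ωY) ωX'
  have hFi : PicF.IsInvertible F :=
    HilbPolyLib.isInvertible_tensor (AmpleDevLib.isInvertible_pb f.left hωYi) hωX'i
  have htriv : Nonempty ((Scheme.Modules.pullback U.ι).obj F ≅ Coh.structureModule (U : Scheme.{u})) := by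
    refine cl_eq_one_iff.1 ?_
    rw [← pull_cl, cl_tensor, map_mul, ← pull_cl, hrestr, ← map_mul, mul_comm, hinv, map_one]
  obtain ⟨d, hd0, hd⟩ := exists_vt_of_trivial_on hL' hX.1 hΔ U h.mem_away_of_generic hFi htriv
  -- the curves among the components
  choose σ hσ using fun j => (hΔ.2.ge (MinModLib.range_mem_fibreComponents hX (Γ j)) :
    Set.range ((Γ j).ι.base : (Γ j).curve.left → X.left) ∈ Set.range fun i => Set.range ((Δ i).ι.base : (Δ i).curve.left → X.left))
  have hσinj : Function.Injective σ := fun a b e => hΓ (by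
    show Set.range (Γ a).ι.base = Set.range (Γ b).ι.base
    rw [← hσ a, ← hσ b, e])
  have hgen : ∀ j, Models.genPtOf R X (Γ j) = Models.genPtOf R X (Δ (σ j)) := fun j => by
    have h1 : Set.range ((Γ j).ι.base : (Γ j).curve.left → X.left) =
        Set.range ((Δ (σ j)).ι.base : (Δ (σ j)).curve.left → X.left) := (hσ j).symm
    rw [VertIntLib.range_eq_closure, VertIntLib.range_eq_closure] at h1
    exact (inseparable_iff_closure_eq.2 h1).eq
  have hLcl : ∀ j, cl (L' (σ j)) = cl (L j) := fun j => by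
    have a1 : cl (L' (σ j)) * cl (ClSub.idealMod (Δ (σ j)).ι.ker) = 1 := by
      rw [← cl_tensor]; exact cl_eq_one_iff.2 (hL' _)
    have a2 : cl (L j) * cl (ClSub.idealMod (Γ j).ι.ker) = 1 := by rw [← cl_tensor]; exact cl_eq_one_iff.2 (hL j)
    rw [VertIntLib.ker_eq_of_genPt (Γ j) (Δ (σ j)) (hgen j)] at a2
    calc cl (L' (σ j)) = cl (L' (σ j)) * (cl (L j) * cl (ClSub.idealMod (Δ (σ j)).ι.ker)) := by rw [a2, mul_one]
      _ = cl (L j) * (cl (L' (σ j)) * cl (ClSub.idealMod (Δ (σ j)).ι.ker)) := mul_left_comm _ _ _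
      _ = cl (L j) := by rw [a1, mul_one]
  have hzero : ∀ i, i ∉ Set.range σ → d i = 0 := fun i hi => hd0 i (by
    by_contra hm
    obtain ⟨j, hj⟩ := Set.mem_iUnion.1 (h.mem_union_of_not_away _ hm)
    rw [VertIntLib.range_eq_closure] at hj
    have e := VertIntLib.isFibGen_of_list hΔ i _ (VertIntLib.genPt_over (Γ j)) (specializes_iff_mem_closure.2 hj)
    exact hi ⟨j, VertIntLib.genPt_injective hΔ ((hgen j).symm.trans e)⟩)
  have hrow : ∀ j, ∑ k, d (σ k) * ArSurf.inter R X (L k) (Γ j) = 0 := fun j => by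
    have h1 := VertIntLib.inter_of_vt hL' hX.1 hΔ hFi hd.symm (Γ j)
    obtain ⟨y, hy⟩ := h.pt j
    rw [VertIntLib.inter_tensor (AmpleDevLib.isInvertible_pb f.left hωYi) hωX'i,
      inter_pullback_point (Γ j) f y hy hωYi, zero_add] at h1
    have h2 : ArSurf.inter R X ωX' (Γ j) = 0 := by
      have h3 := VertIntLib.inter_tensor hωX'i hωXi (Γ j)
      rw [VertIntLib.inter_congr (show cl (CohB1.tensorMod ωX' ωX) = cl (Coh.structureModule X.left) by
        rw [cl_tensor, hinv]; rfl) (Γ j), VertIntLib.inter_structure, hK] at h3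
      linarith
    rw [h2] at h1
    refine Eq.trans ?_ h1.symm
    exact Fintype.sum_of_injective σ hσinj _ _ (fun i hi => by rw [hzero i hi, zero_mul]) fun k => by
      rw [VertIntLib.inter_congr (hLcl k) (Γ j)]
  have hc : (fun j => d (σ j)) = 0 := by
    by_contra hc
    refine absurd (hneg _ hc) (not_lt.2 (le_of_eq ?_))
    rw [← Finset.univ_product_univ, Finset.sum_product]
    refine (Finset.sum_eq_zero fun j _ => ?_).symm
    calc ∑ k, d (σ j) * d (σ k) * ArSurf.inter R X (L k) (Γ j)
        = d (σ j) * ∑ k, d (σ k) * ArSurf.inter R X (L k) (Γ j) := by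
          rw [Finset.mul_sum]; exact Finset.sum_congr rfl fun k _ => mul_assoc _ _ _
      _ = 0 := by rw [hrow j, mul_zero]
  have hdz : d = 0 := funext fun i => by
    by_cases hi : i ∈ Set.range σ
    · obtain ⟨j, rfl⟩ := hi
      exact congrFun hc j
    · exact hzero i hi
  rw [hdz, VertIntLib.vt_zero, Units.val_one, cl_tensor, ← pull_cl] at hd
  calc pull f.left (cl ωY) = pull f.left (cl ωY) * (cl ωX' * cl ωX) := by rw [hinv, mul_one]
    _ = (pull f.left (cl ωY) * cl ωX') * cl ωX := (mul_assoc _ _ _).symm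
    _ = cl ωX := by rw [← hd, one_mul]

/-- A contraction satisfies `f_* O = O`. -/
theorem Contr.isIso_unitToPush (h : Contr Γ Y f) [IsIntegral X.left] [Flat X.hom] [IsProper X.hom] :
    IsIso (ClSub.unitToPush f.left) := by
  haveI := h.int
  haveI := h.isProper_left
  exact CohCmpLib.isIso_unitToPush_of_app f.left fun U => (ConcreteCategory.isIso_iff_bijective _).2
    (BlanchardLib.bijective_app_of_birational (fun q => ⟨inferInstance, h.nor q⟩) f.left (away Γ f) h.away_nonempty
      h.isIso_away U)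

end CanonContrLib

end
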