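import Groth.Agent.VertIntLib.PicApps

/-!
# Line bundles trivial off some components of the closed fibre
-/

set_option autoImplicit false
set_option backward.isDefEq.respectTransparency false
set_option backward.isDefEq.respectTransparency.types false
set_option linter.style.haveILetI false
set_option linter.unusedSectionVars false
set_option maxHeartbeats 2000000
universe u
open AlgebraicGeometry CategoryTheory CategoryTheory.Limits TopologicalSpace IsLocalRing Opposite
open CubeConsLib (cl IsoCls cl_tensor cl_eq_iff cl_eq_one_iff pull)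
open AmpleLib (GenOn)
open TwistLib (genSet)
open VertIntLib

noncomputable section

namespace CanonContrLib

variable {R : Type u} [CommRing R] [IsDomain R] [IsDiscreteValuationRing R]
  {X : Over (Spec (CommRingCat.of R))} [IsIntegral X.left] [Flat X.hom] [IsProper X.hom]
  {n : ℕ} {Γ : Fin n → ArSurf.VertComp R X} {L : Fin n → X.left.Modules}
  (hL : ∀ j, ClSub.IsInverseOf (L j) (ClSub.idealMod (Γ j).ι.ker))
  (hreg : ∀ x : X.left, IsRegularLocalRing (X.left.presheaf.stalk x))
  (hΓ : Models.IsComponentList R X Γ)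

include hreg hΓ in
/-- A module trivial on an open containing the generic fibre is a combination of the components not meeting it
at their generic points. -/
theorem exists_vt_of_trivial_on (U : X.left.Opens) (hU : ∀ x : X.left, X.hom x ≠ closedPoint R → x ∈ U)
    {M : X.left.Modules} (hM : PicF.IsInvertible M)
    (htriv : Nonempty ((Scheme.Modules.pullback U.ι).obj M ≅ Coh.structureModule (U : Scheme.{u}))) :
    ∃ d : Fin n → ℤ, (∀ i, Models.genPtOf R X (Γ i) ∈ U → d i = 0) ∧
      ((vt hL d : (IsoCls X.left)ˣ) : IsoCls X.left) = cl M := by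
  classical
  obtain ⟨ϖ, hϖ'⟩ := IsDiscreteValuationRing.exists_irreducible R
  have hϖ : maximalIdeal R = Ideal.span {ϖ} := hϖ'.maximalIdeal_eq
  haveI : IsLocallyNoetherian X.left := LocallyOfFiniteType.isLocallyNoetherian X.hom
  haveI : CompactSpace X.left := QuasiCompact.compactSpace_of_compactSpace X.hom
  haveI : IsNoetherian X.left := ⟨⟩
  haveI : Coh.IsQCoh M := (CurvLib.isCoh_of_isInvertible hM).1
  set π : Γ(X.left, ⊤) := gρ X.hom ϖ
  have hmem : ∀ x : X.left, x ∈ X.left.basicOpen π ↔ X.hom x ≠ closedPoint R := fun x => by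
    rw [Scheme.mem_basicOpen_top]
    show IsUnit (Models.stalkHom R X x ϖ) ↔ _
    rw [← not_iff_not, ← mem_nonunits_iff, ← IsLocalRing.mem_maximalIdeal, not_not,
      pi_mem_iff x ⟨maximalIdeal _, inferInstance⟩ hϖ,
      show EquidimLib.stalkPt x ⟨maximalIdeal _, inferInstance⟩ = x from Scheme.fromSpecStalk_closedPoint]
  -- the generator on `U`
  obtain ⟨e⟩ := htriv
  let er : M.restrict U.ι ≅ Coh.structureModule (U : Scheme.{u}) :=
    (Scheme.Modules.restrictFunctorIsoPullback U.ι).app M ≪≫ e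
  let one : Γ(Coh.structureModule (U : Scheme.{u}), ⊤) := (1 : Γ((U : Scheme.{u}), ⊤))
  set s₀ : Γ(M.restrict U.ι, ⊤) := er.inv.app ⊤ one
  have hs₀ : GenOn (M.restrict U.ι) s₀ := DescAppLib.genOn_app_iso er.symm DescAppLib.one_genOn'
  have hUe : U = U.ι ''ᵁ ⊤ := (Scheme.Opens.ι_image_top U).symm
  set sU : Γ(M, U) := M.presheaf.map (eqToHom hUe).op s₀
  have hsU : GenOn M sU := genOn_of_restrict U.ι hUe hs₀
  -- the extension
  set D : X.left.Opens := ⊤ ⊓ X.left.basicOpen π
  have hDU : D ≤ U := fun x hx => hU x ((hmem x).1 hx.2)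
  obtain ⟨k, t, ht⟩ := QCohLib.exists_pow_smul_extend (M := M) (W := ⊤) isQuasiSeparated_univ π ⊤
    isCompact_univ le_rfl (AmpleLib.res M hDU sU)
  obtain ⟨r, hr⟩ := (hsU U le_rfl).2 (AmpleLib.res M (le_top : U ≤ ⊤) t)
  simp only [AmpleLib.res_refl] at hr
  have hξ : genericPoint X.left ∈ D := ⟨trivial, (hmem _).2 fun h => eta_ne_closedPoint (genericPoint_over.symm.trans h)⟩
  haveI : Nonempty (D : Scheme.{u}) := ⟨⟨_, hξ⟩⟩
  haveI : Nonempty D := ⟨⟨_, hξ⟩⟩
  have hr' : r = (X.left.presheaf.map (homOfLE (le_top : U ≤ ⊤)).op π) ^ k := by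
    refine (map_injective_of_isIntegral X.left (homOfLE hDU)) ((hsU D hDU).1 ?_)
    show (X.left.presheaf.map (homOfLE hDU).op r) • AmpleLib.res M hDU sU =
      (X.left.presheaf.map (homOfLE hDU).op _) • AmpleLib.res M hDU sU
    rw [← AmpleLib.res_smul, hr, AmpleLib.res_res, map_pow, ← CommRingCat.comp_apply, ← Functor.map_comp]
    exact ht
  have hgen : ∀ x, X.hom x ≠ closedPoint R → x ∈ genSet hM t := fun x hx => by
    have hxD : x ∈ D := ⟨trivial, (hmem x).2 hx⟩
    have hu : IsUnit ((X.left.presheaf.map (homOfLE (le_top : D ≤ ⊤)).op π) ^ k) :=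
      (RingedSpace.isUnit_of_isUnit_germ _ _ _ fun y hy => by
        rw [TopCat.Presheaf.germ_res_apply]
        exact (Scheme.mem_basicOpen_top _ _ y).1 hy.2).pow k
    have hg2 : GenOn M (AmpleLib.res M (le_top : D ≤ ⊤) t) := by
      rw [show AmpleLib.res M (le_top : D ≤ ⊤) t = _ from ht]
      exact genOn_smul_unit hu (hsU.res hDU)
    exact genSet_of_res hM t hg2 hxD
  set σ := QCohLib.unitHom M t
  have hσt : σ.app ⊤ (1 : Γ(X.left, ⊤)) = t := by
    rw [QCohLib.unitHom_app, one_smul]
    exact congr($(M.presheaf.map_id _) t)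
  haveI : Mono σ := by
    refine CurvLib.mono_of_ne_zero CurvLib.isInvertible_structureModule hM fun h0 => ?_
    have ht0 : t = 0 := by rw [← hσt, h0]; rfl
    exact not_genAt_zero (ht0 ▸ hgen _ fun h => eta_ne_closedPoint (genericPoint_over.symm.trans h))
  set I := PicF2.zeroScheme M σ with hIdef
  have hI : BlowUp.IsEffCartierIdeal I := AmpleFinGenLib.isEffCartier_zeroScheme hM σ
  have hsupp : ∀ x ∈ I.support, X.hom x = closedPoint R := fun x hx => by
    by_contra hne
    refine (AmpleFinGenLib.notMem_support_zeroScheme hM σ x).2 ?_ hx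
    rw [AmpleThLib.genLocus_hom hM, hσt]
    exact hgen x hne
  obtain ⟨a, ha⟩ := exists_eq_prod hreg hΓ hI hsupp
  refine ⟨fun i => (a i : ℤ) - k * (Models.mult R X (Γ i) : ℤ), fun i hi => ?_, ?_⟩
  · set x := Models.genPtOf R X (Γ i)
    obtain ⟨W, hW, hxW, hWU'⟩ := exists_isAffineOpen_mem_and_subset hi
    have hWU : W ≤ U := hWU'
    have hc : (X.left.presheaf.map (homOfLE (hWU : W ≤ U)).op r) • AmpleLib.res M hWU sU = MeroLib.secOn σ W := by
      rw [← AmpleLib.res_smul, hr, AmpleLib.res_res, AmpleFinGenLib.secOn_eq_res, hσt]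
    have hideal := MeroLib.zeroScheme_ideal_of_genOn hM σ (W := ⟨W, hW⟩) (hsU.res hWU) hc
    have h1 : IntMult.stalkIdeal I x = Ideal.span {Models.stalkHom R X x ϖ} ^ k := by
      rw [SDivLib.stalkIdeal_eq I ⟨W, hW⟩ hxW, hideal, Ideal.map_span, Set.image_singleton,
        Ideal.span_singleton_pow, hr', map_pow, map_pow, TopCat.Presheaf.germ_res_apply,
        TopCat.Presheaf.germ_res_apply]
      rfl
    rw [← stalkIdeal_fibre x hϖ, ← SDivLib.stalkIdeal_pow,
      specialFibreIdeal_eq hreg hΓ, ← Finset.prod_pow] at h1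
    simp only [← pow_mul] at h1
    rw [ha] at h1
    simp only [x, stalkIdeal_prod_genPt hreg hΓ] at h1
    haveI := hreg x
    haveI := RegUFDLib.uniqueFactorizationMonoid (X.left.presheaf.stalk x)
    have hd1 : ringKrullDim (X.left.presheaf.stalk x) = 1 :=
      dim_stalk_eq_one (genPt_over (Γ i)) (isFibGen_of_list hΓ i)
    haveI : IsDiscreteValuationRing (X.left.presheaf.stalk x) :=
      WeilExtLib.isDiscreteValuationRing_of_regular _ hd1.le fun hf => by
        rw [ringKrullDim_eq_zero_of_isField hf] at hd1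
        exact zero_ne_one hd1
    obtain ⟨p, hp⟩ := IsDiscreteValuationRing.exists_irreducible (X.left.presheaf.stalk x)
    rw [hp.maximalIdeal_eq, Ideal.span_singleton_pow, Ideal.span_singleton_pow,
      Ideal.span_singleton_eq_span_singleton] at h1
    have h2 : a i = Models.mult R X (Γ i) * k :=
      pow_injective_of_not_isUnit hp.not_isUnit hp.ne_zero (associated_pow_iff hp h1)
    show (a i : ℤ) - k * (Models.mult R X (Γ i) : ℤ) = 0
    rw [h2]
    push_cast
    ring
  · obtain ⟨θ⟩ := AmpleFinGenLib.idealMod_tensor_iso hM σ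
    have hθ : idc I * cl M = 1 := by rw [idc, ← cl_tensor]; exact cl_eq_one_iff.2 ⟨θ⟩
    rw [show I = _ from ha, ← inv_vt_natCast hL hreg hΓ] at hθ
    rw [← Units.eq_inv_mul_iff_mul_eq] at hθ
    rw [hθ, inv_inv, mul_one, show (fun i => (a i : ℤ) - k * (Models.mult R X (Γ i) : ℤ)) =
      (fun i => (a i : ℤ)) - (k : ℤ) • fun i => (Models.mult R X (Γ i) : ℤ) from rfl, vt_sub, vt_smul,
      vt_mult hL hreg hΓ, one_zpow, div_one]

end CanonContrLib

end
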